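import Groth.Agent.FinCond.K653.SpreadUnique

/-! A morphism locally of finite presentation with bijective stalk map at `x` is a local isomorphism
at `x`; isomorphisms of local rings spread out. -/

set_option autoImplicit false
universe u

namespace K653.LocalIso

open CategoryTheory CategoryTheory.Limits AlgebraicGeometry TopologicalSpace

variable {X Y S : Scheme.{u}}

/-- If `r ≫ g` is an open immersion and `g` is a monomorphism, then `r` is an open immersion. -/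
theorem isOpenImmersion_of_comp_mono {W U X : Scheme.{u}} (r : W ⟶ U) (g : U ⟶ X) [Mono g]
    [IsOpenImmersion (r ≫ g)] : IsOpenImmersion r := by
  let s : W ⟶ pullback g (r ≫ g) := pullback.lift r (𝟙 W) (by simp)
  have h1 : s ≫ pullback.snd g (r ≫ g) = 𝟙 W := pullback.lift_snd _ _ _
  have h2 : s ≫ pullback.fst g (r ≫ g) = r := pullback.lift_fst _ _ _
  have h3 : pullback.snd g (r ≫ g) ≫ s = 𝟙 _ := by
    apply pullback.hom_ext
    · rw [Category.assoc, h2, ← cancel_mono g, Category.assoc, Category.id_comp,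
        pullback.condition]
    · rw [Category.assoc, h1, Category.comp_id, Category.id_comp]
  have : IsIso s := ⟨_, h1, h3⟩
  rw [← h2]
  infer_instance

theorem exists_isOpenImmersion (f : X ⟶ Y) [LocallyOfFinitePresentation f] (x : X)
    [IsIso (f.stalkMap x)] : ∃ U : X.Opens, x ∈ U ∧ IsOpenImmersion (U.ι ≫ f) := by
  obtain ⟨U, hxU, g, hg1, hg2⟩ := Groth.Agent.Etbase.SpreadOut.spread_out (X := Y) (Y := X) (S := Y)
    (sX := 𝟙 Y) (sY := f) (x := f x) (y := x) rfl (inv (f.stalkMap x)) (by simp)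
  have hg2' : g ≫ f = U.ι := by simpa using hg2
  have hgm : Mono g := by
    have : Mono (g ≫ f) := by rw [hg2']; infer_instance
    exact mono_of_mono g f
  have hxV : x ∈ f ⁻¹ᵁ U := hxU
  have key : (f ⁻¹ᵁ U).fromSpecStalkOfMem x hxV ≫ (f ∣_ U ≫ g) =
      (f ⁻¹ᵁ U).fromSpecStalkOfMem x hxV ≫ (f ⁻¹ᵁ U).ι := by
    have h1 : (f ⁻¹ᵁ U).fromSpecStalkOfMem x hxV ≫ f ∣_ U =
        Spec.map (f.stalkMap x) ≫ U.fromSpecStalkOfMem (f x) hxU := by
      rw [← cancel_mono U.ι, Category.assoc, morphismRestrict_ι, ← Category.assoc,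
        Scheme.Opens.fromSpecStalkOfMem_ι, Category.assoc, Scheme.Opens.fromSpecStalkOfMem_ι,
        Scheme.SpecMap_stalkMap_fromSpecStalk]
    rw [← Category.assoc, h1, Category.assoc, ← hg1, ← Category.assoc, ← Spec.map_comp,
      IsIso.inv_hom_id, Spec.map_id, Category.id_comp, Scheme.Opens.fromSpecStalkOfMem_ι]
  let x' : (f ⁻¹ᵁ U : X.Opens).toScheme := ⟨x, hxV⟩
  have hi : IsIso (Spec.map (inv ((f ⁻¹ᵁ U).ι.stalkMap x'))) := by
    have : IsIso (inv ((f ⁻¹ᵁ U).ι.stalkMap x')) := inferInstance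
    infer_instance
  have key' : (f ⁻¹ᵁ U).toScheme.fromSpecStalk x' ≫ (f ∣_ U ≫ g) =
      (f ⁻¹ᵁ U).toScheme.fromSpecStalk x' ≫ (f ⁻¹ᵁ U).ι := by
    rw [← cancel_epi (Spec.map (inv ((f ⁻¹ᵁ U).ι.stalkMap x')))]
    simp only [Scheme.Opens.fromSpecStalkOfMem, Category.assoc] at key
    exact key
  obtain ⟨W, hxW, hW⟩ := SpreadUnique.spread_out_unique' f (X := (f ⁻¹ᵁ U).toScheme) (x := x')
    (f ∣_ U ≫ g) (f ⁻¹ᵁ U).ι (by rw [Category.assoc, hg2', morphismRestrict_ι]) key'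
  have h4 : IsOpenImmersion ((W.ι ≫ f ∣_ U) ≫ g) := by
    rw [Category.assoc, hW]; infer_instance
  have h5 : IsOpenImmersion (W.ι ≫ f ∣_ U) := isOpenImmersion_of_comp_mono _ g
  refine ⟨(W.ι ≫ (f ⁻¹ᵁ U).ι).opensRange, ⟨⟨x', hxW⟩, rfl⟩, ?_⟩
  have h6 : (W.ι ≫ (f ⁻¹ᵁ U).ι).opensRange.ι ≫ f =
      (W.ι ≫ (f ⁻¹ᵁ U).ι).isoOpensRange.inv ≫ (W.ι ≫ f ∣_ U) ≫ U.ι := by
    rw [Category.assoc, morphismRestrict_ι, Iso.eq_inv_comp, ← Category.assoc,
      Scheme.Hom.isoOpensRange_hom_ι, Category.assoc]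
  rw [h6]
  infer_instance

theorem exists_isIso_spread_out (sX : X ⟶ S) (sY : Y ⟶ S)
    [LocallyOfFinitePresentation sX] [LocallyOfFinitePresentation sY]
    {x : X} {y : Y} (e : sX x = sY y)
    (φ : Y.presheaf.stalk y ⟶ X.presheaf.stalk x) [IsIso φ]
    (h : sY.stalkMap y ≫ φ =
      S.presheaf.stalkSpecializes (Inseparable.of_eq e).specializes ≫ sX.stalkMap x) :
    ∃ (U : X.Opens) (hxU : x ∈ U) (V : Y.Opens) (f : U.toScheme ⟶ V.toScheme), IsIso f ∧
      Spec.map φ ≫ Y.fromSpecStalk y = U.fromSpecStalkOfMem x hxU ≫ f ≫ V.ι ∧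
        f ≫ V.ι ≫ sY = U.ι ≫ sX := by
  obtain ⟨U, hxU, f, hf1, hf2⟩ := Groth.Agent.Etbase.SpreadOut.spread_out e φ h
  let x' : U.toScheme := ⟨x, hxU⟩
  have hlfp : LocallyOfFinitePresentation f := by
    have : LocallyOfFinitePresentation (f ≫ sY) := by rw [hf2]; infer_instance
    exact Groth.Agent.Ega43.FPOfComp.locallyOfFinitePresentation_of_comp f sY
  obtain ⟨σ, hσ⟩ : ∃ σ : X.presheaf.stalk x ≅ U.toScheme.presheaf.stalk x',
      U.fromSpecStalkOfMem x hxU = Spec.map σ.inv ≫ U.toScheme.fromSpecStalk x' := by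
    have hi : IsIso (U.ι.stalkMap x') := inferInstance
    exact ⟨(asIso (U.ι.stalkMap x') :), rfl⟩
  have hσ' : Spec.map σ.hom ≫ Spec.map σ.inv = 𝟙 _ := by
    rw [← Spec.map_comp, σ.inv_hom_id, Spec.map_id]
  have hf3 : U.toScheme.fromSpecStalk x' ≫ f =
      Spec.map (φ ≫ σ.hom) ≫ Y.fromSpecStalk y := by
    rw [Spec.map_comp, Category.assoc, hf1, hσ, Category.assoc, ← Category.assoc, hσ',
      Category.id_comp]
  have hfx : f x' = y := by
    have h1 := congr($hf3 (IsLocalRing.closedPoint _))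
    rw [Scheme.Hom.comp_apply, Scheme.fromSpecStalk_closedPoint, Scheme.Hom.comp_apply] at h1
    rw [h1]
    have : IsLocalHom (φ ≫ σ.hom).hom := inferInstance
    have h4 : (Spec.map (φ ≫ σ.hom)) (IsLocalRing.closedPoint _) = IsLocalRing.closedPoint _ :=
      IsLocalRing.comap_closedPoint (φ ≫ σ.hom).hom
    rw [h4]
    exact Scheme.fromSpecStalk_closedPoint
  have hst : IsIso (f.stalkMap x') := by
    have h2 : f.stalkMap x' = Y.presheaf.stalkSpecializes (Inseparable.of_eq hfx.symm).specializes ≫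
        φ ≫ σ.hom := by
      apply Spec.map_injective
      rw [← cancel_mono (Y.fromSpecStalk _), Scheme.SpecMap_stalkMap_fromSpecStalk, hf3,
        Spec.map_comp _ (φ ≫ σ.hom), Category.assoc, Scheme.SpecMap_stalkSpecializes_fromSpecStalk]
    have h3 : IsIso (Y.presheaf.stalkSpecializes (Inseparable.of_eq hfx.symm).specializes) := by
      have := (TopCat.Presheaf.stalkCongr Y.presheaf (Inseparable.of_eq hfx)).isIso_hom
      exact this
    rw [h2]
    infer_instance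
  obtain ⟨W, hxW, hW⟩ := exists_isOpenImmersion f x'
  have hi : (U.ι.isoImage W).inv ≫ W.ι ≫ U.ι = (U.ι ''ᵁ W).ι := by
    rw [Iso.inv_comp_eq, Scheme.Hom.isoImage_hom_ι]
  have hxU' : x ∈ U.ι ''ᵁ W := ⟨x', hxW, rfl⟩
  have hs : (U.ι ''ᵁ W).fromSpecStalkOfMem x hxU' ≫ (U.ι.isoImage W).inv ≫ W.ι =
      U.fromSpecStalkOfMem x hxU := by
    rw [← cancel_mono U.ι, Category.assoc, Category.assoc, hi, Scheme.Opens.fromSpecStalkOfMem_ι,
      Scheme.Opens.fromSpecStalkOfMem_ι]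
  refine ⟨U.ι ''ᵁ W, hxU', (W.ι ≫ f).opensRange,
    (U.ι.isoImage W).inv ≫ (W.ι ≫ f).isoOpensRange.hom, inferInstance, ?_, ?_⟩
  · rw [Category.assoc, Scheme.Hom.isoOpensRange_hom_ι, hf1, ← hs]
    simp only [Category.assoc]
  · rw [Category.assoc, Scheme.Hom.isoOpensRange_hom_ι_assoc, Category.assoc, hf2, ← hi]
    simp only [Category.assoc]

end K653.LocalIso
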