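import Mathlib.Topology.NoetherianSpace
import Mathlib.AlgebraicGeometry.Morphisms.QuasiCompact
import Mathlib.AlgebraicGeometry.Morphisms.Immersion

/-! Locally Noetherian spaces and quasi-compact morphisms. -/

set_option autoImplicit false
universe u

namespace K653.NoethTop

open TopologicalSpace

/-- In a locally Noetherian space all subsets of a compact set are compact. -/
theorem isCompact_of_subset {X : Type*} [TopologicalSpace X]
    (h : ∀ x : X, ∃ U : Opens X, x ∈ U ∧ NoetherianSpace U) {K t : Set X} (hK : IsCompact K)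
    (ht : t ⊆ K) : IsCompact t := by
  choose U hxU hU using h
  obtain ⟨s, hs⟩ := hK.elim_finite_subcover (fun x => (U x : Set X)) (fun x => (U x).2)
    (fun x _ => Set.mem_iUnion.mpr ⟨x, hxU x⟩)
  have h1 : t = ⋃ x ∈ s, t ∩ (U x : Set X) := by
    ext z
    simp only [Set.mem_iUnion, Set.mem_inter_iff, exists_and_left, exists_prop]
    constructor
    · intro hz
      have := hs (ht hz)
      simp only [Set.mem_iUnion] at this
      obtain ⟨x, hx, hzx⟩ := this
      exact ⟨hz, x, hx, hzx⟩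
    · exact fun h => h.1
  rw [h1]
  refine s.finite_toSet.isCompact_biUnion (fun x _ => ?_)
  exact (noetherianSpace_set_iff (U x : Set X)).mp (hU x) _ Set.inter_subset_right

open AlgebraicGeometry CategoryTheory

theorem quasiCompact_of_isImmersion {X Y : Scheme.{u}} (f : X ⟶ Y) [IsImmersion f]
    (hY : ∀ y : Y, ∃ U : Y.Opens, y ∈ U ∧ NoetherianSpace U) : QuasiCompact f := by
  refine ⟨fun U _ hUc => ?_⟩
  rw [f.isEmbedding.isCompact_iff]
  exact isCompact_of_subset hY hUc (Set.image_preimage_subset _ _)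

theorem quasiCompact_of_comp {X Y Z : Scheme.{u}} (f : X ⟶ Y) (g : Y ⟶ Z) [QuasiCompact (f ≫ g)]
    (hX : ∀ x : X, ∃ U : X.Opens, x ∈ U ∧ NoetherianSpace U) : QuasiCompact f := by
  refine ⟨fun U hU hUc => ?_⟩
  have h1 : ∀ y ∈ U, ∃ V : Y.Opens, y ∈ V ∧ IsCompact (f ⁻¹' (V : Set Y)) := by
    intro y _
    obtain ⟨_, ⟨W : Z.Opens, hW, rfl⟩, hyW, -⟩ :=
      Z.isBasis_affineOpens.exists_subset_of_mem_open (Set.mem_univ (g y)) isOpen_univ
    have h2 : IsCompact ((f ≫ g) ⁻¹' (W : Set Z)) :=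
      (f ≫ g).isCompact_preimage hW.isCompact
    refine ⟨g ⁻¹ᵁ W, hyW, ?_⟩
    rw [Scheme.Hom.comp_base] at h2
    exact h2
  choose V hyV hV using h1
  obtain ⟨s, hs⟩ := hUc.elim_nhds_subcover' (fun y hy => (V y hy : Set Y))
    (fun y hy => (V y hy).2.mem_nhds (hyV y hy))
  have h3 : f ⁻¹' U ⊆ ⋃ y ∈ s, f ⁻¹' (V y.1 y.2 : Set Y) := by
    intro z hz
    have := hs hz
    simpa using this
  exact isCompact_of_subset hX (s.finite_toSet.isCompact_biUnion (fun y _ => hV y.1 y.2)) h3

end K653.NoethTop
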