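import Groth.Agent.Etbase.SpreadOut
import Groth.Agent.Ega43.FPOfComp

/-! Uniqueness of spreading out for targets locally of finite type (no germ-injectivity). -/

set_option autoImplicit false
universe u

namespace K653.SpreadUnique

open CategoryTheory CategoryTheory.Limits AlgebraicGeometry TopologicalSpace

variable {X Y S : Scheme.{u}}

theorem lfp_diagonal {X Y : Scheme.{u}} (f : X ⟶ Y) [LocallyOfFiniteType f] :
    LocallyOfFinitePresentation (pullback.diagonal f) := by
  have : LocallyOfFinitePresentation (pullback.diagonal f ≫ pullback.fst f f) := by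
    rw [pullback.diagonal_fst]
    infer_instance
  exact Groth.Agent.Ega43.FPOfComp.locallyOfFinitePresentation_of_comp _ (pullback.fst f f)

/-- Two `S`-morphisms to a scheme locally of finite type over `S` agreeing on the local scheme at
`x` agree on a neighbourhood of `x`. -/
theorem spread_out_unique' (p : Y ⟶ S) [LocallyOfFiniteType p] (f g : X ⟶ Y)
    (hfg : f ≫ p = g ≫ p) {x : X} (e : X.fromSpecStalk x ≫ f = X.fromSpecStalk x ≫ g) :
    ∃ U : X.Opens, x ∈ U ∧ U.ι ≫ f = U.ι ≫ g := by
  have := lfp_diagonal p
  let F : X ⟶ pullback p p := pullback.lift f g hfg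
  have hF1 : F ≫ pullback.fst p p = f := pullback.lift_fst _ _ _
  have hF2 : F ≫ pullback.snd p p = g := pullback.lift_snd _ _ _
  obtain ⟨U, hxU, k, hk1, hk2⟩ := Groth.Agent.Etbase.SpreadOut.spread_out'
    (sX := F) (sY := pullback.diagonal p) (x := x) (X.fromSpecStalk x ≫ f) (by
      apply pullback.hom_ext
      · rw [Category.assoc, Category.assoc, Category.assoc, hF1, pullback.diagonal_fst,
          Category.comp_id]
      · rw [Category.assoc, Category.assoc, Category.assoc, hF2, pullback.diagonal_snd,
          Category.comp_id, e])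
  refine ⟨U, hxU, ?_⟩
  have h1 := congrArg (· ≫ pullback.fst p p) hk2
  have h2 := congrArg (· ≫ pullback.snd p p) hk2
  simp only [Category.assoc, hF1, pullback.diagonal_fst, Category.comp_id] at h1
  simp only [Category.assoc, hF2, pullback.diagonal_snd, Category.comp_id] at h2
  exact h1.symm.trans h2

theorem spread_out_unique (p : Y ⟶ S) [LocallyOfFiniteType p] (f g : X ⟶ Y)
    (hfg : f ≫ p = g ≫ p) {x : X} (e : f x = g x)
    (H : f.stalkMap x =
      Y.presheaf.stalkSpecializes (Inseparable.of_eq e.symm).specializes ≫ g.stalkMap x) :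
    ∃ U : X.Opens, x ∈ U ∧ U.ι ≫ f = U.ι ≫ g := by
  apply spread_out_unique' p f g hfg
  rw [← Scheme.SpecMap_stalkMap_fromSpecStalk, H, Spec.map_comp, Category.assoc,
    Scheme.SpecMap_stalkSpecializes_fromSpecStalk, Scheme.SpecMap_stalkMap_fromSpecStalk]

end K653.SpreadUnique
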