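import Mathlib.AlgebraicGeometry.Morphisms.FiniteType
import Mathlib.RingTheory.NoetherNormalization
import Mathlib.FieldTheory.IsAlgClosed.Basic
import Mathlib.RingTheory.AlgebraicIndependent.Basic

/-! Domains of finite type over `K` embed into an algebraically closed extension of infinite
transcendence degree; points of schemes locally of finite type over `K` with values in it. -/

set_option autoImplicit false
universe u v

namespace K653.UnivDomain

theorem exists_injective_algHom (K : Type*) (B : Type u) (Ω : Type v) [Field K] [CommRing B] [IsDomain B]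
    [Algebra K B] [Algebra.FiniteType K B] [Field Ω] [IsAlgClosed Ω] [Algebra K Ω]
    (t : ℕ → Ω) (ht : AlgebraicIndependent K t) :
    ∃ φ : B →ₐ[K] Ω, Function.Injective φ := by
  obtain ⟨s, g, hg, hint⟩ := exists_integral_inj_algHom_of_fg K B
  let R := MvPolynomial (Fin s) K
  let h : R →ₐ[K] Ω := MvPolynomial.aeval (fun i : Fin s => t i)
  have hh : Function.Injective h := by
    have := ht.comp (fun i : Fin s => (i : ℕ)) Fin.val_injective
    exact this
  let _ : Algebra R B := g.toRingHom.toAlgebra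
  let _ : Algebra R Ω := h.toRingHom.toAlgebra
  have : IsScalarTower K R B := IsScalarTower.of_algebraMap_eq (fun x => (g.commutes x).symm)
  have : IsScalarTower K R Ω := IsScalarTower.of_algebraMap_eq (fun x => (h.commutes x).symm)
  have : Algebra.IsIntegral R B := ⟨hint⟩
  have : FaithfulSMul R B := (faithfulSMul_iff_algebraMap_injective R B).mpr hg
  have : FaithfulSMul R Ω := (faithfulSMul_iff_algebraMap_injective R Ω).mpr hh
  let ψ : B →ₐ[R] Ω := IsAlgClosed.lift
  refine ⟨ψ.restrictScalars K, ?_⟩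
  change Function.Injective ψ.toRingHom
  rw [RingHom.injective_iff_ker_eq_bot]
  apply Ideal.eq_bot_of_comap_eq_bot (R := R)
  rw [eq_bot_iff]
  intro x hx
  rw [Ideal.mem_comap, RingHom.mem_ker] at hx
  have h1 : algebraMap R Ω x = 0 := by
    rw [← hx]; exact (ψ.commutes x).symm
  exact (FaithfulSMul.algebraMap_injective R Ω) (by rw [h1, map_zero])

open AlgebraicGeometry CategoryTheory

theorem exists_point {K Ω : Type u} [Field K] [Field Ω] [IsAlgClosed Ω] [Algebra K Ω]
    (t : ℕ → Ω) (ht : AlgebraicIndependent K t) {Y : Scheme.{u}}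
    (pY : Y ⟶ Spec (CommRingCat.of K)) [LocallyOfFiniteType pY] (y : Y) :
    ∃ φ : Spec (CommRingCat.of Ω) ⟶ Y, φ ≫ pY = Spec.map (CommRingCat.ofHom (algebraMap K Ω)) ∧
      φ (IsLocalRing.closedPoint Ω) = y := by
  obtain ⟨_, ⟨V : Y.Opens, hV, rfl⟩, hyV, -⟩ :=
    Y.isBasis_affineOpens.exists_subset_of_mem_open (Set.mem_univ y) isOpen_univ
  have hT : IsAffineOpen (⊤ : (Spec (CommRingCat.of K)).Opens) := isAffineOpen_top _
  let ρ : CommRingCat.of K ⟶ Γ(Y, V) :=
    (Scheme.ΓSpecIso (CommRingCat.of K)).inv ≫ pY.appLE ⊤ V le_top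
  have hρ : ρ.hom.FiniteType := by
    have h1 : (pY.appLE ⊤ V le_top).hom.FiniteType := pY.finiteType_appLE hT hV le_top
    have h2 : (Scheme.ΓSpecIso (CommRingCat.of K)).inv.hom.FiniteType :=
      RingHom.FiniteType.of_surjective _
        (ConcreteCategory.bijective_of_isIso (Scheme.ΓSpecIso (CommRingCat.of K)).inv).2
    exact h1.comp h2
  have hρ2 : Spec.map ρ = hV.fromSpec ≫ pY := by
    have h1 := hT.SpecMap_appLE_fromSpec pY hV (le_top : V ≤ pY ⁻¹ᵁ ⊤)
    rw [← h1, IsAffineOpen.fromSpec_top, Spec.map_comp]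
    congr 1
    rw [Scheme.isoSpec_Spec_inv]
  algebraize [ρ.hom]
  let q : PrimeSpectrum Γ(Y, V) := hV.primeIdealOf ⟨y, hyV⟩
  have hq : hV.fromSpec q = y := hV.fromSpec_primeIdealOf ⟨y, hyV⟩
  obtain ⟨ψ, hψ⟩ := exists_injective_algHom K (Γ(Y, V) ⧸ q.asIdeal) Ω t ht
  let χ : Γ(Y, V) →ₐ[K] Ω := ψ.comp (Ideal.Quotient.mkₐ K q.asIdeal)
  refine ⟨Spec.map (CommRingCat.ofHom χ.toRingHom) ≫ hV.fromSpec, ?_, ?_⟩
  · rw [Category.assoc, ← hρ2, ← Spec.map_comp]
    congr 1
    ext x
    exact χ.commutes x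
  · rw [Scheme.Hom.comp_apply, ← hq]
    congr 1
    apply PrimeSpectrum.ext
    ext b
    change b ∈ Ideal.comap χ.toRingHom (IsLocalRing.maximalIdeal Ω) ↔ _
    rw [Ideal.mem_comap, IsLocalRing.maximalIdeal_eq_bot, Ideal.mem_bot]
    change ψ (Ideal.Quotient.mk _ b) = 0 ↔ _
    rw [map_eq_zero_iff ψ hψ, Ideal.Quotient.eq_zero_iff_mem]

end K653.UnivDomain
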